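import Groth.Agent.FlatInjLib.ProjFlat
import Groth.Agent.DefLib.ArtFlat
import Mathlib

/-!
# Vanishing at a prime of elements killed by a power of a finitely generated ideal
-/

set_option autoImplicit false
set_option linter.all false

universe u

open TensorProduct

namespace FlatUnivInjLib

theorem eq_zero_of_map_eq_zero {A Abar : Type u} [CommRing A] [CommRing Abar] [Algebra A Abar] [IsLocalRing Abar]
    {κ : Type u} [CommRing κ] [Algebra A κ] (r : Abar →ₐ[A] κ) (hr : Function.Surjective r)
    (hrker : RingHom.ker r = IsLocalRing.maximalIdeal Abar)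
    {N M : Type u} [AddCommGroup N] [Module A N] [AddCommGroup M] [Module A M] [Module.Flat A M]
    [Module.Free Abar (Abar ⊗[A] N)] (v : N →ₗ[A] M) (hv : Function.Injective (v.lTensor κ))
    {Q : Type u} [AddCommGroup Q] [Module A Q] [Module Abar Q] [IsScalarTower A Abar Q]
    (z : Q ⊗[A] N) (hz : v.lTensor Q z = 0) : z = 0 := by
  have hinj := FlatInjLib.univInj_of_projective_of_flat (A := Abar) (v.baseChange Abar) (fun m hm x hx => by
    rw [IsLocalRing.eq_maximalIdeal hm] at hx ⊢
    have h1 : ∀ (X : Type u) [AddCommGroup X] [Module A X] (w : Abar ⊗[A] X),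
        w ∈ IsLocalRing.maximalIdeal Abar • (⊤ : Submodule Abar (Abar ⊗[A] X)) →
        r.toLinearMap.rTensor X w = 0 := by
      intro X _ _ w hw
      refine Submodule.smul_induction_on hw (fun c hc w hwt => ?_) fun a b ha hb => by rw [map_add, ha, hb, add_zero]
      clear hwt
      rw [← hrker, RingHom.mem_ker] at hc
      induction w using TensorProduct.induction_on with
      | zero => rw [smul_zero, map_zero]
      | tmul a x =>
        rw [TensorProduct.smul_tmul', LinearMap.rTensor_tmul, AlgHom.toLinearMap_apply, smul_eq_mul, map_mul, hc,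
          zero_mul, TensorProduct.zero_tmul]
      | add a b ha hb => rw [smul_add, map_add, ha, hb, add_zero]
    have h2 : r.toLinearMap.rTensor N x = 0 := hv (by
      rw [map_zero, ← h1 M _ hx]
      have : v.lTensor κ ∘ₗ r.toLinearMap.rTensor N = r.toLinearMap.rTensor M ∘ₗ (v.baseChange Abar).restrictScalars A := by
        ext a n; simp
      exact LinearMap.congr_fun this x)
    obtain ⟨w, hw⟩ := (rTensor_exact N (LinearMap.exact_subtype_ker_map r.toLinearMap)
      (show Function.Surjective r.toLinearMap from hr) x).mp h2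
    rw [← hw]
    clear hw
    induction w using TensorProduct.induction_on with
    | zero => rw [map_zero]; exact zero_mem _
    | tmul c n =>
      rw [LinearMap.rTensor_tmul, Submodule.subtype_apply,
        show (c : Abar) ⊗ₜ[A] n = (c : Abar) • ((1 : Abar) ⊗ₜ[A] n) by
          rw [TensorProduct.smul_tmul', smul_eq_mul, mul_one]]
      exact Submodule.smul_mem_smul (hrker.le (show r (c : Abar) = 0 from c.2)) trivial
    | add a b ha hb => rw [map_add]; exact add_mem ha hb) Q
  let eN := AlgebraTensorModule.cancelBaseChange A Abar Abar Q N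
  let eM := AlgebraTensorModule.cancelBaseChange A Abar Abar Q M
  have hcomm : ∀ w, v.lTensor Q (eN w) = eM ((v.baseChange Abar).lTensor Q w) := by
    intro w
    induction w using TensorProduct.induction_on with
    | zero => simp only [map_zero]
    | tmul q w =>
      induction w using TensorProduct.induction_on with
      | zero => simp only [TensorProduct.tmul_zero, map_zero]
      | tmul a n => simp [eN, eM]
      | add a b ha hb => simp only [TensorProduct.tmul_add, map_add, ha, hb]
    | add a b ha hb => simp only [map_add, ha, hb]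
  obtain ⟨w, rfl⟩ := eN.surjective z
  rw [hcomm, eM.map_eq_zero_iff, map_eq_zero_iff _ hinj] at hz
  rw [hz, map_zero]

variable {A : Type u} [CommRing A] (p : Ideal A) [hp : p.IsPrime] {R₁ : Type u} [CommRing R₁] [Algebra R₁ A]
  [IsNoetherianRing R₁] {M₁ : Type u} [AddCommGroup M₁] [Module R₁ M₁] [Module.Flat R₁ M₁]
  {N : Type u} [AddCommGroup N] [Module A N] (e : (A ⊗[R₁] M₁) ≃ₗ[A] N)

include e in
/-- An element killed by a power of the descended prime and mapped to zero vanishes at the prime. -/
theorem exists_smul_eq_zero {M : Type u} [AddCommGroup M] [Module A M] [Module.Flat A M] (v : N →ₗ[A] M)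
    (hv : Function.Injective (v.lTensor p.ResidueField)) {Q : Type u} [AddCommGroup Q] [Module A Q]
    (y : Q ⊗[A] N) (hy : v.lTensor Q y = 0) (n : ℕ) (s : A) (hs : s ∉ p)
    (hkill : ∀ a ∈ ((p.comap (algebraMap R₁ A)).map (algebraMap R₁ A)) ^ (n + 1), s • a • y = 0) :
    ∃ s' ∉ p, s' • y = 0 := by
  haveI : Module.Flat A N := Module.Flat.of_linearEquiv e.symm
  let P₁ := p.comap (algebraMap R₁ A)
  let 𝔞 := (P₁.map (algebraMap R₁ A)) ^ (n + 1)
  obtain ⟨r, a, ha⟩ := Submodule.fg_iff_exists_fin_generating_family.mp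
    ((show (P₁.map (algebraMap R₁ A)).FG from Ideal.FG.map (IsNoetherian.noetherian P₁) _).pow (n := n + 1))
  let ψ : Q →ₗ[A] (Fin r → Q) := LinearMap.pi fun i => (s * a i) • LinearMap.id
  let Q' := LinearMap.ker ψ
  -- `y` comes from the kernel
  have hyψ : ψ.rTensor N y = 0 := by
    refine (TensorProduct.piLeft A N (fun _ : Fin r => Q)).injective ?_
    rw [map_zero]
    funext i
    have : ∀ w : Q ⊗[A] N, TensorProduct.piLeft A N (fun _ : Fin r => Q) (ψ.rTensor N w) i = (s * a i) • w := by
      intro w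
      induction w using TensorProduct.induction_on with
      | zero => simp
      | tmul q x => simp [ψ, TensorProduct.smul_tmul']
      | add b c hb hc => simp only [map_add, Pi.add_apply, hb, hc, smul_add]
    rw [this, mul_smul]
    exact hkill (a i) (ha.le (Submodule.subset_span ⟨i, rfl⟩))
  obtain ⟨y', rfl⟩ := (Module.Flat.rTensor_exact N (LinearMap.exact_subtype_ker_map ψ) y).mp hyψ
  have hy' : v.lTensor Q' y' = 0 := by
    refine Module.Flat.rTensor_preserves_injective_linearMap (M := M) Q'.subtype Subtype.val_injective ?_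
    rw [map_zero, ← LinearMap.comp_apply, LinearMap.rTensor_comp_lTensor, ← LinearMap.lTensor_comp_rTensor,
      LinearMap.comp_apply]
    exact hy
  -- localize
  let Q'' := LocalizedModule p.primeCompl Q'
  let Ap := Localization.AtPrime p
  let Iₚ : Ideal Ap := 𝔞.map (algebraMap A Ap)
  let Abar := Ap ⧸ Iₚ
  have hPle : P₁.map (algebraMap R₁ A) ≤ p := Ideal.map_le_iff_le_comap.mpr le_rfl
  have hIle : Iₚ ≤ IsLocalRing.maximalIdeal Ap := by
    rw [← Localization.AtPrime.map_eq_maximalIdeal]
    exact Ideal.map_mono ((Ideal.pow_le_self (Nat.succ_ne_zero n)).trans hPle)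
  haveI : Nontrivial Abar := Ideal.Quotient.nontrivial_iff.mpr fun h =>
    (IsLocalRing.maximalIdeal.isMaximal Ap).ne_top (top_le_iff.mp (h.ge.trans hIle))
  haveI : IsLocalRing Abar := IsLocalRing.of_surjective' (Ideal.Quotient.mk Iₚ) Ideal.Quotient.mk_surjective
  have htors : Module.IsTorsionBySet Ap Q'' Iₚ := by
    rintro w ⟨c, hc⟩
    show c • w = 0
    replace hc : c ∈ Submodule.span Ap (algebraMap A Ap '' (𝔞 : Set A)) := hc
    induction hc using Submodule.span_induction with
    | mem c hc =>
      obtain ⟨b, hb, rfl⟩ := hc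
      obtain ⟨⟨q, t⟩, rfl⟩ := IsLocalizedModule.mk'_surjective p.primeCompl (LocalizedModule.mkLinearMap p.primeCompl Q') w
      rw [algebraMap_smul, Function.uncurry_apply_pair, ← IsLocalizedModule.mk'_smul, IsLocalizedModule.mk'_eq_zero']
      refine ⟨⟨s, hs⟩, Subtype.ext ?_⟩
      show s • b • (q : Q) = 0
      have hb' : b ∈ Submodule.span A (Set.range a) := ha.ge hb
      clear hb
      induction hb' using Submodule.span_induction with
      | mem b hb =>
        obtain ⟨i, rfl⟩ := hb
        have := congr_fun (LinearMap.mem_ker.mp q.2) i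
        simpa [ψ, mul_smul] using this
      | zero => rw [zero_smul, smul_zero]
      | add b c _ _ hb hc => rw [add_smul, smul_add, hb, hc, add_zero]
      | smul d b _ hb => rw [smul_assoc, smul_comm, hb, smul_zero]
    | zero => rw [zero_smul]
    | add b c _ _ hb hc => rw [add_smul, hb, hc, add_zero]
    | smul d b _ hb => rw [smul_assoc, hb, smul_zero]
  letI : Module Abar Q'' := htors.module
  haveI : IsScalarTower Ap Abar Q'' := htors.isScalarTower (S := Ap)
  haveI : IsScalarTower A Abar Q'' := ⟨fun c x w => by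
    obtain ⟨x, rfl⟩ := Ideal.Quotient.mk_surjective x
    show (c • x) • w = c • x • w
    exact smul_assoc c x w⟩
  -- the residue map
  have hcompat : ∀ x ∈ Iₚ, IsScalarTower.toAlgHom A Ap p.ResidueField x = 0 := fun x hx =>
    (IsLocalRing.residue_eq_zero_iff x).mpr (hIle hx)
  let ρ : Abar →ₐ[A] p.ResidueField := Ideal.Quotient.liftₐ Iₚ (IsScalarTower.toAlgHom A Ap p.ResidueField) hcompat
  have hρmk : ∀ x : Ap, ρ (Ideal.Quotient.mk Iₚ x) = IsLocalRing.residue Ap x := fun x => rfl
  have hρ : Function.Surjective ρ := fun x => by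
    obtain ⟨x, rfl⟩ := IsLocalRing.residue_surjective x
    exact ⟨Ideal.Quotient.mk Iₚ x, rfl⟩
  have hρker : RingHom.ker ρ = IsLocalRing.maximalIdeal Abar := by
    refine IsLocalRing.eq_maximalIdeal ?_
    exact RingHom.ker_isMaximal_of_surjective (K := IsLocalRing.ResidueField Ap) ρ hρ
  -- freeness
  haveI : Module.Free Abar (Abar ⊗[A] N) := by
    let L := Localization.AtPrime P₁
    let R₀ := L ⧸ IsLocalRing.maximalIdeal L ^ (n + 1)
    haveI : Nontrivial R₀ := Ideal.Quotient.nontrivial_iff.mpr fun h =>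
      (IsLocalRing.maximalIdeal.isMaximal L).ne_top
        (top_le_iff.mp (h.ge.trans (Ideal.pow_le_self (Nat.succ_ne_zero n))))
    haveI : IsLocalRing R₀ := IsLocalRing.of_surjective' (Ideal.Quotient.mk _) Ideal.Quotient.mk_surjective
    have hnil : IsNilpotent (IsLocalRing.maximalIdeal R₀) := ⟨n + 1, by
      have hm : IsLocalRing.maximalIdeal R₀ = (IsLocalRing.maximalIdeal L).map (Ideal.Quotient.mk _) :=
        (IsLocalRing.eq_maximalIdeal (Ideal.IsMaximal.map_of_surjective_of_ker_le Ideal.Quotient.mk_surjective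
          (by rw [Ideal.mk_ker]; exact Ideal.pow_le_self (Nat.succ_ne_zero n)))).symm
      rw [hm, ← Ideal.map_pow, Ideal.map_quotient_self, Submodule.zero_eq_bot]⟩
    haveI : Module.Free R₀ (R₀ ⊗[R₁] M₁) := DefLib.free_of_flat_of_nilpotent hnil
    let φ : L →ₐ[R₁] Ap := IsLocalization.liftAlgHom (M := P₁.primeCompl) (f := Algebra.ofId R₁ Ap) fun t => by
      rw [Algebra.ofId_apply, IsScalarTower.algebraMap_apply R₁ A Ap]
      exact IsLocalization.map_units Ap (⟨algebraMap R₁ A t, t.2⟩ : p.primeCompl)
    have hφ : IsLocalRing.maximalIdeal L ^ (n + 1) ≤ Iₚ.comap φ := by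
      rw [← Ideal.map_le_iff_le_comap, ← Localization.AtPrime.map_eq_maximalIdeal, Ideal.map_pow]
      show (P₁.map (algebraMap R₁ L)).map φ.toRingHom ^ (n + 1) ≤ _
      rw [Ideal.map_map, show φ.toRingHom.comp (algebraMap R₁ L) = algebraMap R₁ Ap from φ.comp_algebraMap, IsScalarTower.algebraMap_eq R₁ A Ap, ← Ideal.map_map, ← Ideal.map_pow]
    let φ' : R₀ →+* Abar := Ideal.quotientMap Iₚ φ.toRingHom hφ
    letI : Algebra R₀ Abar := φ'.toAlgebra
    haveI : IsScalarTower R₁ R₀ Abar := ⟨fun c x z => by
      obtain ⟨x, rfl⟩ := Ideal.Quotient.mk_surjective x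
      obtain ⟨z, rfl⟩ := Ideal.Quotient.mk_surjective z
      show Ideal.Quotient.mk Iₚ (φ (c • x) * z) = c • Ideal.Quotient.mk Iₚ (φ x * z)
      rw [map_smul, smul_mul_assoc]
      rfl⟩
    exact Module.Free.of_equiv ((AlgebraTensorModule.cancelBaseChange R₁ R₀ Abar Abar M₁).trans
      ((AlgebraTensorModule.cancelBaseChange R₁ A Abar Abar M₁).symm.trans (e.baseChange A Abar _ _)))
  let lN : Q' ⊗[A] N →ₗ[A] Q'' ⊗[A] N := (LocalizedModule.mkLinearMap p.primeCompl Q').rTensor N
  have h0 : lN y' = 0 := by
    refine eq_zero_of_map_eq_zero ρ hρ hρker v hv _ ?_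
    rw [← LinearMap.comp_apply, LinearMap.lTensor_comp_rTensor, ← LinearMap.rTensor_comp_lTensor,
      LinearMap.comp_apply, hy', map_zero]
  haveI : IsLocalizedModule p.primeCompl lN :=
    inferInstanceAs (IsLocalizedModule p.primeCompl
      (AlgebraTensorModule.rTensor A N (LocalizedModule.mkLinearMap p.primeCompl Q')))
  obtain ⟨t, ht⟩ := (IsLocalizedModule.eq_zero_iff p.primeCompl lN).mp h0
  exact ⟨t, t.2, by rw [← map_smul, show (t : A) • y' = 0 from ht, map_zero]⟩

end FlatUnivInjLib
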