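import Groth.Agent.FlatUnivInjLib.Model
import Groth.Agent.FlatUnivInjLib.Core
import Groth.Agent.FlatLib.FibEssFP
import Groth.Prelude.Def_FlatCA

/-!
# Universal injectivity for flat modules of finite presentation over localized algebras
-/

set_option autoImplicit false
set_option linter.all false

universe u

open TensorProduct

attribute [local instance] Algebra.TensorProduct.rightAlgebra

namespace FlatUnivInjLib

variable {A B : Type u} [CommRing A] [CommRing B] [Algebra A B]

theorem exists_smul_eq_zero_of_rTensor {R S X X' Q : Type u} [CommRing R] [CommRing S] [Algebra R S]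
    [AddCommGroup X] [Module S X] [Module R X] [IsScalarTower R S X] [AddCommGroup X'] [Module S X'] [Module R X']
    [IsScalarTower R S X'] [AddCommGroup Q] [Module R Q] (T : Submonoid S) (g : X →ₗ[S] X') [IsLocalizedModule T g]
    (z : X ⊗[R] Q) (hz : (g.restrictScalars R).rTensor Q z = 0) : ∃ t ∈ T, t • z = 0 := by
  obtain ⟨t, ht⟩ := (IsLocalizedModule.eq_zero_iff T (AlgebraTensorModule.rTensor R Q g)).mp hz
  exact ⟨t, t.2, ht⟩

theorem exists_smul_pow_mem {A : Type u} [CommRing A] (J : Ideal A) {p : Ideal A} [p.IsPrime] (hp : p ∈ J.minimalPrimes)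
    (𝔞 : Ideal A) (h𝔞 : 𝔞.FG) (hle : 𝔞 ≤ p) : ∃ n, ∃ s ∉ p, ∀ a ∈ 𝔞 ^ (n + 1), s * a ∈ J := by
  classical
  let Ap := Localization.AtPrime p
  let K : Ideal A := (J.map (algebraMap A Ap)).comap (algebraMap A Ap)
  have hrad : 𝔞 ≤ K.radical := by
    refine hle.trans fun a ha => ?_
    rw [Ideal.radical_eq_sInf, Submodule.mem_sInf]
    rintro q ⟨hKq, hq⟩
    by_contra haq
    have hdisj : Disjoint ((J : Set A)) (p.primeCompl ⊔ Submonoid.powers a : Submonoid A) := by
      rw [Set.disjoint_left]
      rintro x hxJ hx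
      obtain ⟨s, hs, y, ⟨k, rfl⟩, rfl⟩ := Submonoid.mem_sup.mp hx
      have hK : a ^ k ∈ K := (IsLocalization.algebraMap_mem_map_algebraMap_iff p.primeCompl Ap J _).mpr ⟨s, hs, hxJ⟩
      exact haq (hq.mem_of_pow_mem k (hKq hK))
    obtain ⟨q', hq', hJq', hd⟩ := Ideal.exists_le_prime_disjoint _ _ hdisj
    have hqp : q' ≤ p := fun x hx => by
      by_contra hxp
      exact Set.disjoint_left.mp hd hx (Submonoid.mem_sup_left hxp)
    exact Set.disjoint_left.mp hd (hp.2 ⟨hq', hJq'⟩ hqp ha) (Submonoid.mem_sup_right ⟨1, pow_one a⟩)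
  obtain ⟨n, hn⟩ := Ideal.exists_pow_le_of_le_radical_of_fg hrad h𝔞
  obtain ⟨G, hG⟩ := Ideal.FG.pow (n := n + 1) h𝔞
  have hK : ∀ a ∈ G, ∃ s ∉ p, s * a ∈ J := fun a ha => by
    obtain ⟨s, hs, h⟩ := (IsLocalization.algebraMap_mem_map_algebraMap_iff p.primeCompl Ap J a).mp
      (hn (Ideal.pow_le_pow_right n.le_succ (hG.le (Submodule.subset_span ha))))
    exact ⟨s, hs, h⟩
  choose! s hs hsJ using hK
  refine ⟨n, ∏ a ∈ G, s a, ?_, fun a ha => ?_⟩
  · intro h
    obtain ⟨a, ha, hmem⟩ := (inferInstance : p.IsPrime).prod_mem_iff.mp h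
    exact hs a ha hmem
  · rw [← hG] at ha
    induction ha using Submodule.span_induction with
    | mem a ha =>
      obtain ⟨c, hc⟩ := Finset.dvd_prod_of_mem s ha
      rw [hc, mul_comm (s a), mul_assoc]
      exact J.mul_mem_left _ (hsJ a ha)
    | zero => rw [mul_zero]; exact zero_mem _
    | add a b _ _ ha hb => rw [mul_add]; exact add_mem ha hb
    | smul c a _ ha => rw [smul_eq_mul, mul_left_comm]; exact J.mul_mem_left _ ha

set_option maxHeartbeats 1600000 in
theorem univInj_of_flat (T : Submonoid B) [Algebra.FinitePresentation A B] {N₀ N : Type u}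
    [AddCommGroup N₀] [Module B N₀] [Module A N₀] [IsScalarTower A B N₀] [Module.FinitePresentation B N₀]
    [AddCommGroup N] [Module B N] [Module A N] [IsScalarTower A B N] [Module.Flat A N]
    (g : N₀ →ₗ[B] N) [IsLocalizedModule T g] {M : Type u} [AddCommGroup M] [Module A M] [Module.Flat A M]
    (u : N →ₗ[A] M) (h : ∀ (p : Ideal A) [p.IsPrime], Function.Injective (u.lTensor p.ResidueField)) :
    FlatCA.UnivInj A u := by
  classical
  intro Q _ _
  rw [LinearMap.lTensor_inj_iff_rTensor_inj]
  refine (injective_iff_map_eq_zero _).mpr fun z0 hz0 => ?_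
  by_contra hne
  let J : Ideal A := LinearMap.ker (LinearMap.toSpanSingleton A _ z0)
  have hJ : ∀ a, a ∈ J ↔ a • z0 = 0 := fun a => Iff.rfl
  obtain ⟨p, hpJ⟩ := J.nonempty_minimalPrimes (fun e => hne (by
    have := (hJ 1).mp (e ▸ Submodule.mem_top); rwa [one_smul] at this))
  haveI : p.IsPrime := hpJ.1.1
  -- the flat locus
  obtain ⟨f₁, hf₁, hf₁O⟩ : ∃ f₁ ∈ T, ∀ q : PrimeSpectrum B, f₁ ∉ q.asIdeal → q ∈ FlatLib.flatLocus A B N₀ := by
    obtain ⟨I, hI⟩ := (PrimeSpectrum.isClosed_iff_zeroLocus_ideal _).mp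
      (FlatLib.isOpen_flatLocus_fp (R := A) (S := B) (M := N₀)).isClosed_compl
    by_cases hd : Disjoint (I : Set B) T
    · exfalso
      obtain ⟨q, hq, hIq, hqT⟩ := Ideal.exists_le_prime_disjoint _ _ hd
      have hn : (⟨q, hq⟩ : PrimeSpectrum B) ∈ (FlatLib.flatLocus A B N₀)ᶜ := by rw [hI]; exact hIq
      exact hn (FlatLib.flat_of_le T g q.primeCompl (LocalizedModule.mkLinearMap _ N₀)
        (fun t ht htq => Set.disjoint_left.mp hqT htq ht) inferInstance)
    · obtain ⟨f₁, h1, h2⟩ := Set.not_disjoint_iff.mp hd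
      refine ⟨f₁, h2, fun q hq => ?_⟩
      by_contra hn
      exact hq ((hI.le hn) h1)
  -- the fibre
  let κ := p.ResidueField
  let C := κ ⊗[A] B
  haveI : IsNoetherianRing C := Algebra.FiniteType.isNoetherianRing κ C
  let G := g.baseChange C
  obtain ⟨f₂, hf₂, hf₂G⟩ : ∃ f₂ ∈ T, ∀ w, G w = 0 → f₂ • w = 0 := by
    obtain ⟨W, hW⟩ := IsNoetherian.noetherian (LinearMap.ker G)
    have hk : ∀ w ∈ W, ∃ t ∈ T, t • w = 0 := fun w hw => by
      obtain ⟨t, ht, h0⟩ := exists_smul_eq_zero_of_rTensor (R := B) T g (TensorProduct.comm B C N₀ w) (by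
        have e : ∀ w, (g.restrictScalars B).rTensor C (TensorProduct.comm B C N₀ w) = TensorProduct.comm B C N (G w) := by
          intro w
          induction w using TensorProduct.induction_on with
          | zero => simp only [map_zero]
          | tmul c x => simp [G]
          | add a b ha hb => simp only [map_add, ha, hb]
        rw [e, show G w = 0 from hW.le (Submodule.subset_span hw), map_zero])
      refine ⟨t, ht, (TensorProduct.comm B C N₀).injective ?_⟩
      rw [map_smul, map_zero, h0]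
    choose! t ht htw using hk
    refine ⟨∏ w ∈ W, t w, Submonoid.prod_mem _ ht, fun w hw => ?_⟩
    have hw' : w ∈ Submodule.span C (W : Set _) := hW.ge hw
    clear hw
    induction hw' using Submodule.span_induction with
    | mem w hw =>
      obtain ⟨c, hc⟩ := Finset.dvd_prod_of_mem t hw
      rw [hc, mul_comm, mul_smul, htw w hw, smul_zero]
    | zero => rw [smul_zero]
    | add a b _ _ ha hb => rw [smul_add, ha, hb, add_zero]
    | smul c a _ ha => rw [smul_comm, ha, smul_zero]
  let f := f₁ * f₂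
  have hfT : f ∈ T := mul_mem hf₁ hf₂
  let Bf := Localization (Submonoid.powers f)
  let N₁ := LocalizedModule (Submonoid.powers f) N₀
  let l : N₀ →ₗ[B] N₁ := LocalizedModule.mkLinearMap _ N₀
  haveI : Algebra.FinitePresentation A Bf :=
    haveI : Algebra.FinitePresentation B Bf := IsLocalization.Away.finitePresentation f
    Algebra.FinitePresentation.trans A B Bf
  haveI : Module.Flat A N₁ := by
    refine (FlatLib.flat_localized_iff (Submonoid.powers f) l).mpr fun P _ _ N' w hw => ?_
    let Ann : Ideal B := LinearMap.ker (LinearMap.toSpanSingleton B _ w)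
    have hrad : f ∈ Ann.radical := by
      rw [Ideal.radical_eq_sInf, Submodule.mem_sInf]
      rintro q ⟨hAq, hq⟩
      by_contra hfq
      obtain ⟨t, htq, htw⟩ := (FlatLib.flat_localized_iff (⟨q, hq⟩ : PrimeSpectrum B).asIdeal.primeCompl
        (LocalizedModule.mkLinearMap _ N₀)).mp (hf₁O ⟨q, hq⟩ fun h1 => hfq (Ideal.mul_mem_right _ _ h1)) P N' w hw
      exact htq (hAq htw)
    obtain ⟨k, hk⟩ := hrad
    exact ⟨f ^ k, ⟨k, rfl⟩, hk⟩
  obtain ⟨R₁, _, _, _, M₁, _, _, _, ⟨e⟩⟩ := exists_noetherian_model A Bf N₁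
  have hunit : ∀ t : T, IsUnit (algebraMap B (Module.End B N) t) := fun t => IsLocalizedModule.map_units g t
  have hfunit : ∀ x : Submonoid.powers f, IsUnit (algebraMap B (Module.End B N) x) := fun x => by
    obtain ⟨k, hk⟩ := x.2
    exact hunit ⟨x, hk ▸ pow_mem hfT k⟩
  let g₁ : N₁ →ₗ[B] N := IsLocalizedModule.lift (Submonoid.powers f) l g hfunit
  have hg₁ : g₁ ∘ₗ l = g := IsLocalizedModule.lift_comp _ _ _ _
  have hgg₁ : g.restrictScalars A = g₁.restrictScalars A ∘ₗ l.restrictScalars A :=
    LinearMap.ext fun x => (LinearMap.congr_fun hg₁ x).symm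
  -- lift the element
  obtain ⟨⟨z, t⟩, hzt⟩ := IsLocalizedModule.surj T (AlgebraTensorModule.rTensor A Q g) z0
  simp only at hzt
  obtain ⟨n, s, hs, hsJ⟩ := exists_smul_pow_mem J hpJ ((p.comap (algebraMap R₁ A)).map (algebraMap R₁ A))
    (Ideal.FG.map (IsNoetherian.noetherian _) _) (Ideal.map_le_iff_le_comap.mpr le_rfl)
  let 𝔞 := ((p.comap (algebraMap R₁ A)).map (algebraMap R₁ A)) ^ (n + 1)
  obtain ⟨W, hW⟩ : 𝔞.FG := Ideal.FG.pow (Ideal.FG.map (IsNoetherian.noetherian _) _)
  have hk : ∀ a ∈ W, ∃ t' ∈ T, t' • s • a • z = 0 := fun a ha => by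
    refine exists_smul_eq_zero_of_rTensor (R := A) T g _ ?_
    show (AlgebraTensorModule.rTensor A Q g) (s • a • z) = 0
    rw [LinearMap.map_smul_of_tower, LinearMap.map_smul_of_tower, ← hzt, ← mul_smul, Submonoid.smul_def,
      smul_comm (s * a), (hJ _).mp (hsJ a (hW.le (Submodule.subset_span ha))), smul_zero]
  choose! t₀ ht₀ ht₀z using hk
  let t' := ∏ a ∈ W, t₀ a
  have ht' : t' ∈ T := Submonoid.prod_mem _ ht₀
  have hkill : ∀ a ∈ 𝔞, t' • s • a • z = 0 := fun a ha => by
    have ha' : a ∈ Submodule.span A (W : Set A) := hW.ge ha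
    clear ha
    induction ha' using Submodule.span_induction with
    | mem a ha =>
      obtain ⟨c, hc⟩ := Finset.dvd_prod_of_mem t₀ ha
      rw [show t' = t₀ a * c from hc, mul_comm, mul_smul, ht₀z a ha, smul_zero]
    | zero => simp
    | add a b _ _ ha hb => rw [add_smul, smul_add, smul_add, ha, hb, add_zero]
    | smul c a _ ha => rw [smul_eq_mul, mul_smul, smul_comm s c, smul_comm t' c, ha, smul_zero]
  obtain ⟨inv, hinv⟩ := (hunit (t * ⟨t', ht'⟩)).exists_left_inv
  have hinv' : Function.Injective inv := by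
    intro a b hab
    obtain ⟨i2, hi2⟩ := (hunit (t * ⟨t', ht'⟩)).exists_right_inv
    have e1 : inv = i2 := left_inv_eq_right_inv hinv hi2
    have := congrArg (algebraMap B (Module.End B N) ((t * ⟨t', ht'⟩ : T) : B)) hab
    rw [e1, ← Module.End.mul_apply, hi2] at this
    rwa [← Module.End.mul_apply, hi2] at this
  let w1 : N₁ ⊗[A] Q := AlgebraTensorModule.rTensor A Q l (t' • z)
  let gi : N₁ →ₗ[A] N := (inv ∘ₗ g₁).restrictScalars A
  have hw1 : gi.rTensor Q w1 = z0 := by
    have e1 : ∀ y : N₀ ⊗[A] Q, gi.rTensor Q (AlgebraTensorModule.rTensor A Q l y) =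
        AlgebraTensorModule.rTensor A Q inv (AlgebraTensorModule.rTensor A Q g y) := by
      intro y
      induction y using TensorProduct.induction_on with
      | zero => simp only [map_zero]
      | tmul x q => simp [gi, ← hg₁]
      | add a b ha hb => simp only [map_add, ha, hb]
    rw [show w1 = AlgebraTensorModule.rTensor A Q l (t' • z) from rfl, e1, map_smul, ← hzt, Submonoid.smul_def,
      ← mul_smul]
    have e2 : ∀ y : N ⊗[A] Q, AlgebraTensorModule.rTensor A Q inv ((t' * (t : B)) • y) = y := by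
      intro y
      induction y using TensorProduct.induction_on with
      | zero => simp
      | tmul x q =>
        rw [TensorProduct.smul_tmul', AlgebraTensorModule.rTensor_tmul]
        congr 1
        have := LinearMap.congr_fun hinv x
        rw [mul_comm]
        exact this
      | add a b ha hb => rw [smul_add, map_add, ha, hb]
    exact e2 z0
  let v : N₁ →ₗ[A] M := u ∘ₗ gi
  have hv : Function.Injective (v.lTensor κ) := by
    rw [LinearMap.lTensor_comp]
    rw [LinearMap.coe_comp]
    refine (h p).comp ?_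
    have e1 : gi = (inv.restrictScalars A) ∘ₗ (g₁.restrictScalars A) := rfl
    rw [e1, LinearMap.lTensor_comp]
    rw [LinearMap.coe_comp]
    refine Function.Injective.comp ?_ ?_
    · have hb : Function.Bijective inv := by
        refine ⟨hinv', fun x => ⟨algebraMap B (Module.End B N) ((t * ⟨t', ht'⟩ : T) : B) x, ?_⟩⟩
        exact LinearMap.congr_fun hinv x
      exact (LinearEquiv.lTensor κ (LinearEquiv.ofBijective (inv.restrictScalars A) hb)).injective
    refine (injective_iff_map_eq_zero _).mpr fun w hw => ?_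
    let mf : ∀ (X : Type u) [AddCommGroup X] [Module B X] [Module A X] [IsScalarTower A B X], B → (X →ₗ[A] X) :=
      fun X _ _ _ _ b => (LinearMap.lsmul B X b).restrictScalars A
    have hsur : ∀ w : κ ⊗[A] N₁, ∃ k w₀, (mf N₁ (f ^ k)).lTensor κ w = (l.restrictScalars A).lTensor κ w₀ := by
      intro w
      induction w using TensorProduct.induction_on with
      | zero => exact ⟨0, 0, by simp⟩
      | tmul c x =>
        obtain ⟨⟨y, ⟨_, k, rfl⟩⟩, hy⟩ := IsLocalizedModule.surj (Submonoid.powers f) l x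
        refine ⟨k, c ⊗ₜ y, ?_⟩
        simp only [LinearMap.lTensor_tmul, LinearMap.restrictScalars_apply]
        rw [← hy]
        rfl
      | add a b ha hb =>
        obtain ⟨k, a₀, hka⟩ := ha
        obtain ⟨k', b₀, hkb⟩ := hb
        refine ⟨k + k', (mf N₀ (f ^ k')).lTensor κ a₀ + (mf N₀ (f ^ k)).lTensor κ b₀, ?_⟩
        have ec : ∀ j (y : κ ⊗[A] N₀), (l.restrictScalars A).lTensor κ ((mf N₀ (f ^ j)).lTensor κ y) =
            (mf N₁ (f ^ j)).lTensor κ ((l.restrictScalars A).lTensor κ y) := fun j y => by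
          rw [← LinearMap.comp_apply, ← LinearMap.comp_apply, ← LinearMap.lTensor_comp, ← LinearMap.lTensor_comp]
          congr 2
          ext x
          simp [mf, LinearMap.lsmul_apply]
        have em : ∀ i j, mf N₁ (f ^ (i + j)) = mf N₁ (f ^ j) ∘ₗ mf N₁ (f ^ i) := fun i j => by
          ext x
          simp [mf, LinearMap.lsmul_apply, ← mul_smul, ← pow_add, add_comm]
        rw [map_add, map_add, ec, ec, ← hka, ← hkb, ← LinearMap.comp_apply, ← LinearMap.comp_apply,
          ← LinearMap.lTensor_comp, ← LinearMap.lTensor_comp, ← em, ← em, add_comm k' k]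
    obtain ⟨k, w₀, hw₀⟩ := hsur w
    have hgw : (g.restrictScalars A).lTensor κ w₀ = 0 := by
      rw [hgg₁, LinearMap.lTensor_comp, LinearMap.comp_apply, ← hw₀, ← LinearMap.comp_apply, ← LinearMap.lTensor_comp,
        show g₁.restrictScalars A ∘ₗ mf N₁ (f ^ k) = mf N (f ^ k) ∘ₗ g₁.restrictScalars A by
          ext x; simp [mf, LinearMap.lsmul_apply],
        LinearMap.lTensor_comp, LinearMap.comp_apply, hw, map_zero]
    let e0 := Algebra.IsPushout.cancelBaseChange A κ B C N₀
    let e2 := Algebra.IsPushout.cancelBaseChange A κ B C N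
    have hG : ∀ y, G (e0.symm y) = e2.symm ((g.restrictScalars A).lTensor κ y) := by
      intro y
      induction y using TensorProduct.induction_on with
      | zero => simp only [map_zero]
      | tmul c x => simp [G, e0, e2]
      | add a b ha hb => simp only [map_add, ha, hb]
    have hf0 : f • e0.symm w₀ = 0 := by
      rw [show f = f₁ * f₂ from rfl, mul_smul, hf₂G _ (by rw [hG, hgw, map_zero]), smul_zero]
    have he0 : ∀ y, e0.symm ((mf N₀ f).lTensor κ y) = f • e0.symm y := by
      intro y
      induction y using TensorProduct.induction_on with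
      | zero => simp only [map_zero, smul_zero]
      | tmul c x => simp [e0, mf, Module.algebraMap_end_apply]
      | add a b ha hb => simp only [map_add, ha, hb, smul_add]
    have h1 : (mf N₀ f).lTensor κ w₀ = 0 := e0.symm.injective (by rw [he0, hf0, map_zero])
    have h2 : (mf N₁ (f ^ (k + 1))).lTensor κ w = 0 := by
      have e4 : mf N₁ (f ^ (k + 1)) = mf N₁ f ∘ₗ mf N₁ (f ^ k) := by
        ext x; simp [mf, LinearMap.lsmul_apply, ← mul_smul, pow_succ, mul_comm]
      have e5 : mf N₁ f ∘ₗ l.restrictScalars A = l.restrictScalars A ∘ₗ mf N₀ f := by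
        ext x; simp [mf, LinearMap.lsmul_apply]
      rw [e4, LinearMap.lTensor_comp, LinearMap.comp_apply, hw₀, ← LinearMap.comp_apply, ← LinearMap.lTensor_comp,
        e5, LinearMap.lTensor_comp, LinearMap.comp_apply, h1, map_zero]
    have hb : Function.Bijective (mf N₁ (f ^ (k + 1))) :=
      show Function.Bijective ⇑(algebraMap B (Module.End B N₁) (f ^ (k + 1))) from (Module.End.isUnit_iff _).mp (IsLocalizedModule.map_units l (⟨f ^ (k + 1), ⟨k + 1, rfl⟩⟩ : Submonoid.powers f))
    exact (LinearEquiv.lTensor κ (LinearEquiv.ofBijective _ hb)).map_eq_zero_iff.mp h2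
  have hy : v.lTensor Q (TensorProduct.comm A N₁ Q w1) = 0 := by
    have : ∀ y, v.lTensor Q (TensorProduct.comm A N₁ Q y) = TensorProduct.comm A M Q (u.rTensor Q (gi.rTensor Q y)) := by
      intro y
      induction y using TensorProduct.induction_on with
      | zero => simp only [map_zero]
      | tmul x q => simp [v]
      | add a b ha hb => simp only [map_add, ha, hb]
    rw [this, hw1, hz0, map_zero]
  obtain ⟨s', hs', hs'0⟩ := exists_smul_eq_zero p e v hv (TensorProduct.comm A N₁ Q w1) hy n s hs fun a ha => by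
    rw [← map_smul, ← map_smul, ← LinearMap.map_smul_of_tower, ← LinearMap.map_smul_of_tower,
      smul_comm a t', smul_comm s t', hkill a ha, map_zero, map_zero]
  refine hs' (hpJ.1.2 ((hJ _).mpr ?_))
  rw [← map_smul, (TensorProduct.comm A N₁ Q).map_eq_zero_iff] at hs'0
  rw [← hw1, ← map_smul, hs'0, map_zero]

end FlatUnivInjLib
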