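import Groth.Agent.FlatLib.StageFlat
import Groth.Agent.FlatLib.OpenFP
import Mathlib

/-!
# A Noetherian model of a flat finitely presented module
-/

set_option autoImplicit false
set_option linter.all false

universe u

open TensorProduct

attribute [local instance] MvPolynomial.algebraMvPolynomial

namespace FlatUnivInjLib

set_option synthInstance.maxHeartbeats 400000 in
set_option maxHeartbeats 2000000 in
/-- A flat module of finite presentation over a finitely presented algebra comes from a flat module over a
Noetherian ring. -/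
theorem exists_noetherian_model (A S N : Type u) [CommRing A] [CommRing S] [Algebra A S]
    [Algebra.FinitePresentation A S] [AddCommGroup N] [Module S N] [Module A N] [IsScalarTower A S N]
    [Module.FinitePresentation S N] [Module.Flat A N] :
    ∃ (R₁ : Type u) (_ : CommRing R₁) (_ : Algebra R₁ A) (_ : IsNoetherianRing R₁)
      (M₁ : Type u) (_ : AddCommGroup M₁) (_ : Module R₁ M₁) (_ : Module.Flat R₁ M₁),
      Nonempty ((A ⊗[R₁] M₁) ≃ₗ[A] N) := by
  obtain ⟨σ, hσ, π, hπ, hker⟩ := Algebra.FinitePresentation.iff_quotient_mvPolynomial'.{_, _, u}.mp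
    (inferInstance : Algebra.FinitePresentation A S)
  let P := MvPolynomial σ A
  letI : Algebra P S := π.toRingHom.toAlgebra
  haveI : IsScalarTower A P S := IsScalarTower.of_algebraMap_eq fun r ↦ (π.commutes r).symm
  letI : Module P N := Module.compHom N π.toRingHom
  haveI : IsScalarTower P S N := IsScalarTower.of_algebraMap_smul fun _ _ ↦ rfl
  haveI : IsScalarTower A P N := IsScalarTower.of_algebraMap_smul fun r m ↦ by
    show π (algebraMap A P r) • m = r • m
    rw [π.commutes, algebraMap_smul]
  haveI : Module.FinitePresentation P S :=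
    Module.finitePresentation_of_surjective (Algebra.linearMap P S) hπ hker
  haveI : Module.FinitePresentation P N := Module.FinitePresentation.trans P N S
  obtain ⟨A₀, M₀, _, _, _, _, hA₀, _, ⟨e⟩, -⟩ := FlatLib.exists_model (σ := σ) (R := A) (M := N) ∅ (by simp)
  haveI : IsNoetherianRing A₀ := isNoetherianRing_of_fg hA₀
  haveI : Module.Flat A (FlatLib.BC σ A₀ M₀ A) := Module.Flat.of_linearEquiv (e.restrictScalars A)
  obtain ⟨F, hF⟩ := FlatLib.exists_flat_stage (σ := σ) (A := A₀) (M₀ := M₀) (R := A)
  haveI : IsNoetherianRing (FlatLib.stg A₀ F) := isNoetherianRing_of_fg ⟨F, rfl⟩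
  obtain ⟨ι, hι, -⟩ := FlatLib.exists_isBaseChange_stage σ M₀ (A := A₀) (R₁ := FlatLib.stg A₀ F) (R₂ := A)
  exact ⟨FlatLib.stg A₀ F, inferInstance, inferInstance, inferInstance, FlatLib.BC σ A₀ M₀ (FlatLib.stg A₀ F),
    inferInstance, inferInstance, hF, ⟨hι.equiv.trans (e.restrictScalars A)⟩⟩

end FlatUnivInjLib
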